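import Cfsg.Agent.Lib.SporadicB.J3Inv.Cent

/-! J3 acting on 6156 points. -/

set_option autoImplicit false
set_option linter.all false
set_option Elab.async false

namespace CfsgLib.SporadicB.J3Inv

open CfsgLib.SporRecognition.CosetCert (allBelow allBelow_spec)
open CfsgLib.SporadicB.J3
open Cfsg.Spor

attribute [local irreducible] Data.tab0 Data.tab1 Data.perm0 Data.perm1

theorem perm_fix_only_zero : allBelow 13 6156 (fun u =>
    !(Nat.beq (Data.perm0 u) u && Nat.beq (Data.perm1 u) u) || Nat.beq u 0) = true := by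
  unfold Data.perm0 Data.perm1
  decide +kernel

variable {F : Type*} [Field F] [Fintype F] [CharP F 2] {ω : F} (hω : ω ^ 2 + ω + 1 = 0)

include hω in
theorem exists_setup : Nonempty (Setup (Cfsg.Spor.J3 F ω)) := by
  classical
  obtain ⟨φ, hker, htrans, hfix, htab, hperm⟩ := exists_phi (F := F) hω
  obtain ⟨hsimp, hcard⟩ := isJ3_quotient (F := F) hω
  choose k hk hkp using fun a : Fin 2 => hperm a a.2
  have hg : ∀ a : Fin 2, ∃ s : threeJ3 F ω, ∀ p, ((φ s p : Fin 6156) : Nat) = Data.tab a p := fun a => by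
    obtain ⟨s, -, hs⟩ := mem_genSet_of (F := F) hω a a.2
    exact ⟨s, htab a s a.2 hs⟩
  choose g hgt using hg
  have hcen : Subgroup.center (threeJ3 F ω) ≤ φ.ker := by
    intro c hc
    rw [MonoidHom.mem_ker]
    have hcomm : ∀ (x : threeJ3 F ω) (p : Fin 6156), φ x (φ c p) = φ c (φ x p) := fun x p => by
      rw [← Equiv.Perm.mul_apply, ← map_mul, Subgroup.mem_center_iff.mp hc x, map_mul, Equiv.Perm.mul_apply]
    have hfx : ∀ a : Fin 2, Data.perm a (φ c 0 : Fin 6156) = ((φ c 0 : Fin 6156) : Nat) := fun a => by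
      rw [← hkp a, hcomm, hfix _ (hk a)]
    have h0 : φ c 0 = 0 := by
      have h := allBelow_spec perm_fix_only_zero (φ c 0 : Fin 6156) (Fin.is_lt _)
      have e0 : Data.perm0 (φ c 0 : Fin 6156) = ((φ c 0 : Fin 6156) : Nat) := hfx 0
      have e1 : Data.perm1 (φ c 0 : Fin 6156) = ((φ c 0 : Fin 6156) : Nat) := hfx 1
      rw [e0, e1, Nat.beq_refl] at h
      exact Fin.ext (Nat.eq_of_beq_eq_true (by simpa using h))
    ext p
    obtain ⟨x, rfl⟩ := htrans p
    rw [← hcomm, h0]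
    rfl
  let ψ : Cfsg.Spor.J3 F ω →* Equiv.Perm (Fin 6156) := QuotientGroup.lift _ φ hcen
  have hinj : Function.Injective ψ := by
    rw [← MonoidHom.ker_eq_bot_iff]
    refine (hsimp.eq_bot_or_eq_top_of_normal ψ.ker inferInstance).resolve_right fun htop => ?_
    obtain ⟨x, hx⟩ := htrans ⟨1, by norm_num⟩
    have h1 : ψ (QuotientGroup.mk x) = 1 := MonoidHom.mem_ker.mp (htop ▸ Subgroup.mem_top _)
    have h2 : φ x = 1 := h1
    rw [h2] at hx
    exact absurd (congrArg Fin.val hx) (by norm_num)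
  refine ⟨⟨ψ, hinj, hcard, fun p => ?_, fun a => QuotientGroup.mk (g a), fun a u => ?_,
    fun a => QuotientGroup.mk (k a), fun a => hfix _ (hk a), fun a u => ?_⟩⟩
  · obtain ⟨x, hx⟩ := htrans p
    exact ⟨QuotientGroup.mk x, hx⟩
  · show ((φ (g a) u : Fin 6156) : Nat) = _
    rw [hgt]
    show (bif Nat.beq (a : Nat) 0 then Data.tab0 else Data.tab1) (u : Nat) = (bif Nat.beq (a : Nat) 0 then Data.tab0 u else Data.tab1 u)
    cases Nat.beq (a : Nat) 0 <;> rfl
  · show ((φ (k a) u : Fin 6156) : Nat) = _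
    rw [hkp]
    show (bif Nat.beq (a : Nat) 0 then Data.perm0 else Data.perm1) (u : Nat) = (bif Nat.beq (a : Nat) 0 then Data.perm0 else Data.perm1) (u : Nat)
    rfl

include hω in
theorem main : (∀ x y : Cfsg.Spor.J3 F ω, orderOf x = 2 → orderOf y = 2 → IsConj x y) ∧
    ∃ t : Cfsg.Spor.J3 F ω, orderOf t = 2 ∧
      ∃ (Q : Subgroup ↥(Subgroup.centralizer ({t} : Set (Cfsg.Spor.J3 F ω)))) (_ : Q.Normal),
        Cfsg.IsExtraspecial 2 Q ∧ Nat.card Q = 32 ∧
        (∀ E : Subgroup Q, Cfsg.IsElementaryAbelian 2 E → Nat.card E ≤ 2 ^ 2) ∧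
        (∃ H : Subgroup ↥(Subgroup.centralizer ({t} : Set (Cfsg.Spor.J3 F ω))), Q.IsComplement' H) ∧
        Nonempty (↥(Subgroup.centralizer ({t} : Set (Cfsg.Spor.J3 F ω))) ⧸ Q ≃* ↥(alternatingGroup (Fin 5))) := by
  obtain ⟨S⟩ := exists_setup (F := F) hω
  exact ⟨fun x y hx hy => (S.isConj_t x hx).symm.trans (S.isConj_t y hy), S.t, S.orderOf_t, S.cent_structure⟩

end CfsgLib.SporadicB.J3Inv
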