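import Cfsg.Agent.Lib.SporadicB.J3Inv.Check2
import Cfsg.Agent.Lib.SporadicB.J3.Basic
import Cfsg.Agent.Lib.PGroups.Frattini

/-! Involutions of J3 and the centraliser of one of them. -/

set_option autoImplicit false
set_option linter.all false
set_option Elab.async false

namespace CfsgLib.SporadicB.J3Inv

open CfsgLib.SporRecognition.CosetCert (allBelow allBelow_spec allPow field countLab ncard_lab)
open CfsgLib.SporadicB.J3.Data (tab0 tab1 perm0 perm1)
open Cfsg.Spor

attribute [local irreducible] tab0 tab1 perm0 perm1 e0 e1 e2 ct0 ct1 ct2 cvia csrc srtE img inH srtH qidx qw qm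
  p0 p1 p2 pw pg pt pvia psrc srtP pcj kk1 kk2 kk3 kk4 kvia ksrc srtKK

/-- A group acting on 6156 points as J3 does. -/
structure Setup (G : Type*) [Group G] where
  ψ : G →* Equiv.Perm (Fin 6156)
  inj : Function.Injective ψ
  card_eq : Nat.card G = 50232960
  trans : ∀ p, ∃ g, ψ g 0 = p
  g : Fin 2 → G
  g_tab : ∀ a u, ((ψ (g a) u : Fin 6156) : Nat) = step a u
  k : Fin 2 → G
  k_fix : ∀ a, ψ (k a) 0 = 0
  k_tab : ∀ a u, ((ψ (k a) u : Fin 6156) : Nat) = kperm a u

theorem inj_sorted {n : Nat} (f srt : Nat → Nat) (hlt : ∀ j, j < n → srt j < n)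
    (hs : ∀ a, a + 1 < n → f (srt a) < f (srt (a + 1))) (x y : Fin n) (h : f x = f y) : x = y := by
  have hmono : ∀ a b, a < b → b < n → f (srt a) < f (srt b) := by
    intro a b hab
    induction b, hab using Nat.le_induction with
    | base => exact fun hb => hs a hb
    | succ b hb ih => exact fun hN => (ih (by omega)).trans (hs b hN)
  have hinj : Function.Injective fun a : Fin n => (⟨srt a, hlt a a.2⟩ : Fin n) := by
    intro a b hab
    have e : f (srt a) = f (srt b) := by rw [show srt a = srt b from congrArg Fin.val hab]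
    rcases lt_trichotomy (a : Nat) b with hl | he | hl
    · exact absurd e (hmono _ _ hl b.2).ne
    · exact Fin.ext he
    · exact absurd e (hmono _ _ hl a.2).ne'
  obtain ⟨a, rfl⟩ := Finite.surjective_of_injective hinj x
  obtain ⟨b, rfl⟩ := Finite.surjective_of_injective hinj y
  rcases lt_trichotomy (a : Nat) b with hl | he | hl
  · exact absurd h (hmono _ _ hl b.2).ne
  · rw [Fin.ext he]
  · exact absurd h (hmono _ _ hl a.2).ne'

namespace Setup

variable {G : Type*} [Group G] (S : Setup G)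

/-- The element given by a packed word. -/
noncomputable def eltF : Nat → Nat → G
  | 0, _ => 1
  | n + 1, c => bif Nat.blt c 2 then 1 else eltF n (Nat.shiftRight c 1) * S.g (if Nat.land c 1 = 0 then 0 else 1)

/-- The element of a packed word. -/
noncomputable def elt (c : Nat) : G := S.eltF 40 c

theorem eltF_run (n : Nat) : ∀ (c : Nat) (u : Fin 6156), ((S.ψ (S.eltF n c) u : Fin 6156) : Nat) = runF n c u := by
  induction n with
  | zero => intro c u; simp [eltF, runF]
  | succ n ih =>
    intro c u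
    show ((S.ψ (bif Nat.blt c 2 then 1 else _) u : Fin 6156) : Nat) =
      (bif Nat.blt c 2 then (u : Nat) else runF n (Nat.shiftRight c 1) (step (Nat.land c 1) u))
    cases Nat.blt c 2
    · simp only [cond_false, map_mul, Equiv.Perm.mul_apply]
      rw [ih, S.g_tab]
      congr 1
      by_cases h : Nat.land c 1 = 0
      · rw [if_pos h, h]; rfl
      · rw [if_neg h]
        show step 1 u = step (Nat.land c 1) u
        unfold step
        rw [show Nat.beq (Nat.land c 1) 0 = false from Bool.eq_false_iff.mpr fun e => h (Nat.eq_of_beq_eq_true e)]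
        rfl
    · simp

theorem elt_run (c : Nat) (u : Fin 6156) : ((S.ψ (S.elt c) u : Fin 6156) : Nat) = run c u := S.eltF_run 40 c u

theorem finite (S : Setup G) : Finite G := Nat.finite_of_card_ne_zero (by rw [S.card_eq]; norm_num)

/-- The images of the three base points. -/
noncomputable def key (x : G) : Nat × Nat × Nat :=
  ((S.ψ x 0 : Fin 6156), (S.ψ x ⟨4, by norm_num⟩ : Fin 6156), (S.ψ x ⟨1, by norm_num⟩ : Fin 6156))

theorem key_elt_mul (c : Nat) (x : G) :
    S.key (S.elt c * x) = (run c (S.key x).1, run c (S.key x).2.1, run c (S.key x).2.2) := by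
  simp only [key, map_mul, Equiv.Perm.mul_apply, S.elt_run]

theorem key_elt (c : Nat) : S.key (S.elt c) = (run c 0, run c 4, run c 1) := by
  simp [key, S.elt_run]

theorem key_one : S.key 1 = (0, 4, 1) := by simp [key]

/-- The point stabiliser. -/
noncomputable def stab : Subgroup G where
  carrier := {x | S.ψ x 0 = 0}
  one_mem' := by simp
  mul_mem' := fun {a b} ha hb => by
    show S.ψ (a * b) 0 = 0
    rw [map_mul, Equiv.Perm.mul_apply, hb, ha]
  inv_mem' := fun {a} ha => by
    show S.ψ a⁻¹ 0 = 0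
    rw [map_inv, Equiv.Perm.inv_eq_iff_eq]
    exact ha.symm

theorem card_stab : Nat.card S.stab = 8160 := by
  let act : MulAction G (Fin 6156) := MulAction.compHom _ S.ψ
  have hp : MulAction.IsPretransitive G (Fin 6156) := by
    rw [MulAction.isPretransitive_iff_base (0 : Fin 6156)]
    exact S.trans
  have h := MulAction.index_stabilizer_of_transitive G (0 : Fin 6156)
  have h1 := (MulAction.stabilizer G (0 : Fin 6156)).card_mul_index
  rw [h, Nat.card_fin, S.card_eq] at h1
  have : MulAction.stabilizer G (0 : Fin 6156) = S.stab := rfl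
  rw [this] at h1
  omega

theorem exists_kk (j : Nat) (hj : j < 8160) : ∃ x ∈ S.stab, (S.ψ x ⟨4, by norm_num⟩ : Fin 6156).val = kk1 j ∧
    (S.ψ x ⟨1, by norm_num⟩ : Fin 6156).val = kk2 j ∧
    (∀ h : run tw 4 < 6156, (S.ψ x ⟨run tw 4, h⟩ : Fin 6156).val = kk3 j) ∧
    (∀ h : run tw 1 < 6156, (S.ψ x ⟨run tw 1, h⟩ : Fin 6156).val = kk4 j) := by
  induction j using Nat.strongRecOn with
  | _ j ih =>
    have h := allBelow_spec k_ok j hj
    simp only [kStep, Bool.and_eq_true] at h
    have hb := h.1.1.1.1.1.1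
    by_cases hj0 : j = 0
    · subst hj0
      simp only [Nat.beq_refl, cond_true, Bool.and_eq_true, Nat.beq_eq] at hb
      exact ⟨1, S.stab.one_mem, by simp [hb.1.1.1], by simp [hb.1.1.2], fun _ => by simp [hb.1.2], fun _ => by simp [hb.2]⟩
    rw [show Nat.beq j 0 = false from Bool.eq_false_iff.mpr fun e => hj0 (Nat.eq_of_beq_eq_true e), cond_false] at hb
    simp only [Bool.and_eq_true, Nat.blt_eq, Nat.beq_eq] at hb
    obtain ⟨⟨⟨⟨⟨hv, hsrc⟩, h1⟩, h2⟩, h3⟩, h4⟩ := hb
    obtain ⟨x, hx, x1, x2, x3, x4⟩ := ih _ hsrc (hsrc.trans hj)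
    refine ⟨S.k ⟨kvia j, hv⟩ * x, S.stab.mul_mem (S.k_fix _) hx, ?_, ?_, fun h => ?_, fun h => ?_⟩ <;>
      rw [map_mul, Equiv.Perm.mul_apply, S.k_tab]
    · rw [x1]; exact h1
    · rw [x2]; exact h2
    · rw [x3 h]; exact h3
    · rw [x4 h]; exact h4

theorem kk_inj (a b : Fin 8160) (h1 : kk1 a = kk1 b) (h2 : kk2 a = kk2 b) : a = b := by
  have hk := fun j hj => allBelow_spec k_ok j hj
  refine inj_sorted (fun j => kk1 j + 8192 * kk2 j) srtKK (fun j hj => ?_) (fun j hj => ?_) a b (by simp [h1, h2])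
  · have h := hk j hj
    simp only [kStep, Bool.and_eq_true, Nat.blt_eq] at h
    exact h.1.2
  · have h := hk (j + 1) hj
    simp only [kStep, Bool.and_eq_true] at h
    have := h.2
    rw [show Nat.beq (j + 1) 0 = false from rfl, cond_false, Nat.blt_eq] at this
    exact this

theorem stab_bijective : Function.Bijective (fun j : Fin 8160 => (⟨(S.exists_kk j j.2).choose,
    (S.exists_kk j j.2).choose_spec.1⟩ : S.stab)) := by
  have := S.finite
  refine (Nat.bijective_iff_injective_and_card _).mpr ⟨fun a b e => ?_, by rw [Nat.card_fin, S.card_stab]⟩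
  have e' := congrArg Subtype.val e
  refine kk_inj a b ?_ ?_
  · rw [← (S.exists_kk a a.2).choose_spec.2.1, ← (S.exists_kk b b.2).choose_spec.2.1]
    simp only at e'
    rw [e']
  · rw [← (S.exists_kk a a.2).choose_spec.2.2.1, ← (S.exists_kk b b.2).choose_spec.2.2.1]
    simp only at e'
    rw [e']

/-- An element is determined by the images of three points. -/
theorem key_injective : Function.Injective S.key := by
  intro x y h
  simp only [key, Prod.mk.injEq] at h
  have e0 : S.ψ x 0 = S.ψ y 0 := Fin.ext h.1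
  have hk : y⁻¹ * x ∈ S.stab := by
    show S.ψ (y⁻¹ * x) 0 = 0
    rw [map_mul, map_inv, Equiv.Perm.mul_apply, e0]
    exact (S.ψ y).symm_apply_apply 0
  obtain ⟨a, ha⟩ := S.stab_bijective.2 ⟨_, hk⟩
  obtain ⟨b, hb⟩ := S.stab_bijective.2 1
  have fix : ∀ p : Fin 6156, S.ψ x p = S.ψ y p → S.ψ (y⁻¹ * x) p = p := fun p e => by
    rw [map_mul, map_inv, Equiv.Perm.mul_apply, e]
    exact (S.ψ y).symm_apply_apply p
  have hab : a = b := by
    refine kk_inj a b ?_ ?_
    · rw [← (S.exists_kk a a.2).choose_spec.2.1, ← (S.exists_kk b b.2).choose_spec.2.1,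
        show (S.exists_kk a a.2).choose = y⁻¹ * x from congrArg Subtype.val ha,
        show (S.exists_kk b b.2).choose = 1 from congrArg Subtype.val hb, fix _ (Fin.ext h.2.1)]
      simp
    · rw [← (S.exists_kk a a.2).choose_spec.2.2.1, ← (S.exists_kk b b.2).choose_spec.2.2.1,
        show (S.exists_kk a a.2).choose = y⁻¹ * x from congrArg Subtype.val ha,
        show (S.exists_kk b b.2).choose = 1 from congrArg Subtype.val hb, fix _ (Fin.ext h.2.2)]
      simp
  subst hab
  exact (inv_mul_eq_one.mp (congrArg Subtype.val (ha.symm.trans hb))).symm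

/-- The involution. -/
noncomputable def t : G := S.elt tw

theorem t_sq_one : S.t * S.t = 1 := by
  apply S.key_injective
  have h := t_sq
  simp only [Bool.and_eq_true, Nat.beq_eq] at h
  rw [t, key_elt_mul, key_elt, key_one, h.1.1.1, h.1.1.2, h.2]

theorem orderOf_t : orderOf S.t = 2 := by
  refine orderOf_eq_prime (by rw [pow_two, S.t_sq_one]) fun h => ?_
  have hh := t_sq
  simp only [Bool.and_eq_true, Bool.not_eq_true'] at hh
  have e := congrArg (fun p : Nat × Nat × Nat => p.2.1) (S.key_elt tw)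
  rw [show S.elt tw = 1 from h, key_one] at e
  exact Nat.ne_of_beq_eq_false hh.1.2 e.symm

theorem run_elt_fix {x : G} (hx : x * S.t = S.t * x) (u : Fin 6156) :
    (S.ψ x (S.ψ S.t u) : Fin 6156) = S.ψ S.t (S.ψ x u) := by
  rw [← Equiv.Perm.mul_apply, ← map_mul, hx, map_mul, Equiv.Perm.mul_apply]

/-- The centraliser of the involution. -/
noncomputable def cent : Subgroup G := Subgroup.centralizer ({S.t} : Set G)

theorem card_cent_le : Nat.card S.cent ≤ 2432 := by
  have := S.finite
  let act : MulAction S.cent (Fin 6156) := MulAction.compHom _ (S.ψ.comp S.cent.subtype)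
  have hto := t_ok
  simp only [Bool.and_eq_true, Nat.beq_eq] at hto
  have ht0 : S.ψ S.t 0 = 0 := Fin.ext ((S.elt_run tw 0).trans hto.1)
  have horb : (MulAction.orbit S.cent (0 : Fin 6156)).ncard ≤ 76 := by
    have h76 := hto.2
    rw [← ncard_lab (by norm_num : 6156 ≤ 2 ^ 13)] at h76
    rw [← h76]
    refine Set.ncard_le_ncard ?_ (Set.toFinite _)
    rintro u ⟨c, rfl⟩
    show (bif Nat.beq (run tw (S.ψ (c : G) 0 : Fin 6156)) (S.ψ (c : G) 0 : Fin 6156) then 1 else 0) = 1
    have e : run tw (S.ψ (c : G) 0 : Fin 6156) = ((S.ψ (c : G) 0 : Fin 6156) : Nat) := by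
      rw [← S.elt_run]
      show ((S.ψ S.t (S.ψ (c : G) 0) : Fin 6156) : Nat) = _
      rw [← S.run_elt_fix (Subgroup.mem_centralizer_singleton_iff.mp c.2), ht0]
    rw [e, Nat.beq_refl]
    rfl
  have hst : Nat.card (MulAction.stabilizer S.cent (0 : Fin 6156)) ≤ 32 := by
    have hidx : ∀ c : MulAction.stabilizer S.cent (0 : Fin 6156), ∃ j : Fin 8160, kcomm j = 1 ∧
        (S.exists_kk j j.2).choose = ((c : S.cent) : G) := by
      intro c
      obtain ⟨j, hj⟩ := S.stab_bijective.2 ⟨((c : S.cent) : G), c.2⟩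
      have hj' : (S.exists_kk j j.2).choose = ((c : S.cent) : G) := congrArg Subtype.val hj
      refine ⟨j, ?_, hj'⟩
      obtain ⟨-, x1, x2, x3, x4⟩ := (S.exists_kk j j.2).choose_spec
      rw [hj'] at x1 x2 x3 x4
      have hc := Subgroup.mem_centralizer_singleton_iff.mp (c : S.cent).2
      have hlt : ∀ u, u < 6156 → run tw u < 6156 := fun u hu => (S.elt_run tw ⟨u, hu⟩).symm.trans_lt (Fin.is_lt _)
      have key' : ∀ (b : Nat) (hb : b < 6156), run tw (S.ψ ((c : S.cent) : G) ⟨b, hb⟩ : Fin 6156) =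
          ((S.ψ ((c : S.cent) : G) ⟨run tw b, hlt b hb⟩ : Fin 6156) : Nat) := by
        intro b hb
        rw [← S.elt_run, show (⟨run tw b, hlt b hb⟩ : Fin 6156) = S.ψ S.t ⟨b, hb⟩ from
          Fin.ext (S.elt_run tw ⟨b, hb⟩).symm, S.run_elt_fix hc]
        rfl
      have e1 := key' 4 (by norm_num)
      have e2 := key' 1 (by norm_num)
      rw [x1, x3 (hlt 4 (by norm_num))] at e1
      rw [x2, x4 (hlt 1 (by norm_num))] at e2
      show (bif Nat.beq (run tw (kk1 j)) (kk3 j) && Nat.beq (run tw (kk2 j)) (kk4 j) then 1 else 0) = 1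
      rw [e1, e2, Nat.beq_refl, Nat.beq_refl]
      rfl
    choose f hf hfc using hidx
    have h32 := k_count
    rw [← ncard_lab (by norm_num : 8160 ≤ 2 ^ 13)] at h32
    rw [← h32]
    refine le_trans (Nat.card_le_card_of_injective (fun c => (⟨f c, hf c⟩ : {j : Fin 8160 | kcomm j = 1})) ?_) ?_
    · intro a b e
      have e' : f a = f b := congrArg Subtype.val e
      have := hfc a
      rw [e', hfc b] at this
      exact Subtype.ext (Subtype.ext this.symm)
    · rw [Nat.card_coe_set_eq]
  rw [← MulAction.index_stabilizer] at horb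
  have h := (MulAction.stabilizer S.cent (0 : Fin 6156)).card_mul_index
  nlinarith

theorem p_key_inj (a b : Fin 128) (h0 : p0 a = p0 b) (h1 : p1 a = p1 b) (h2 : p2 a = p2 b) : a = b := by
  have hp := fun j hj => allBelow_spec p_ok j hj
  refine inj_sorted (fun j => p0 j + 8192 * p1 j + 67108864 * p2 j) srtP (fun j hj => ?_) (fun j hj => ?_) a b
    (by simp [h0, h1, h2])
  · have h := hp j hj
    simp only [pStep, Bool.and_eq_true, Nat.blt_eq] at h
    exact h.1.2
  · have h := hp (j + 1) hj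
    simp only [pStep, Bool.and_eq_true] at h
    have := h.2
    rw [show Nat.beq (j + 1) 0 = false from rfl, cond_false, Nat.blt_eq] at this
    exact this

/-- All involutions are conjugate to the chosen one. -/
theorem isConj_t (x : G) (hx : orderOf x = 2) : IsConj S.t x := by
  have := S.finite
  have : Fact (Nat.Prime 2) := ⟨Nat.prime_two⟩
  have hp := fun j hj => allBelow_spec p_ok j hj
  simp only [pStep, Bool.and_eq_true, Nat.beq_eq, Nat.blt_eq] at hp
  have hkey : ∀ i : Fin 128, S.key (S.elt (pw i)) = (p0 i, p1 i, p2 i) := fun i => by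
    obtain ⟨⟨⟨⟨⟨⟨⟨-, h0⟩, h1⟩, h2⟩, -⟩, -⟩, -⟩, -⟩ := hp i i.2
    rw [key_elt, h0, h1, h2]
  have hgen : ∀ (k : Nat), k < 3 → ∀ i : Fin 128, ∃ h : pt (3 * (i : Nat) + k) < 128,
      S.elt (pg k) * S.elt (pw i) = S.elt (pw (⟨pt (3 * (i : Nat) + k), h⟩ : Fin 128)) := by
    intro k hk i
    obtain ⟨⟨⟨⟨-, hg⟩, -⟩, -⟩, -⟩ := hp i i.2
    have h : pgStep i k = true := by
      interval_cases k
      · exact hg.1.1.1
      · exact hg.1.1.2
      · exact hg.1.2
    simp only [pgStep, Bool.and_eq_true, Nat.beq_eq, Nat.blt_eq] at h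
    obtain ⟨⟨⟨hlt, h0⟩, h1⟩, h2⟩ := h
    refine ⟨hlt, S.key_injective ?_⟩
    rw [key_elt_mul, hkey, hkey, h0, h1, h2]
  have hone : S.elt (pw (0 : Fin 128)) = 1 := by
    apply S.key_injective
    rw [hkey, key_one]
    have h := (hp 0 (by norm_num)).2
    simp only [Nat.beq_refl, cond_true, Bool.and_eq_true, Nat.beq_eq] at h
    show (p0 0, p1 0, p2 0) = _
    rw [h.1.1, h.1.2, h.2]
  let P0 : Set G := Set.range fun i : Fin 128 => S.elt (pw i)
  let Pg : Set G := {S.elt (pg 0), S.elt (pg 1), S.elt (pg 2)}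
  have hPset : ∀ g ∈ Subgroup.closure Pg, g ∈ P0 := by
    refine CfsgLib.SporadicB.J3.closure_subset_of_left_closed Pg P0 ⟨0, hone⟩ ?_
    rintro s hs _ ⟨j, rfl⟩
    rcases hs with rfl | rfl | rfl
    · obtain ⟨h, e⟩ := hgen 0 (by norm_num) j; exact ⟨_, e.symm⟩
    · obtain ⟨h, e⟩ := hgen 1 (by norm_num) j; exact ⟨_, e.symm⟩
    · obtain ⟨h, e⟩ := hgen 2 (by norm_num) j; exact ⟨_, e.symm⟩
  have hPall : ∀ i : Nat, ∀ hi : i < 128, S.elt (pw i) ∈ Subgroup.closure Pg := by
    intro i
    induction i using Nat.strongRecOn with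
    | _ i ih =>
      intro hi
      by_cases hi0 : i = 0
      · subst hi0
        rw [show S.elt (pw 0) = 1 from hone]
        exact one_mem _
      obtain ⟨⟨⟨⟨-, hg⟩, -⟩, -⟩, -⟩ := hp i hi
      have hb := allBelow_spec p_ok i hi
      simp only [pStep, Bool.and_eq_true] at hb
      have ht := hb.1.1.1.2.2
      rw [show Nat.beq i 0 = false from Bool.eq_false_iff.mpr fun e => hi0 (Nat.eq_of_beq_eq_true e), cond_false] at ht
      simp only [Bool.and_eq_true, Nat.blt_eq, Nat.beq_eq] at ht
      obtain ⟨⟨hv, hsrc⟩, hti⟩ := ht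
      obtain ⟨h, e⟩ := hgen (pvia i) hv ⟨psrc i, hsrc.trans hi⟩
      simp only [hti] at e
      rw [← e]
      refine mul_mem (Subgroup.subset_closure ?_) (ih _ hsrc (hsrc.trans hi))
      obtain ⟨v, hv'⟩ : ∃ v, pvia i = v := ⟨_, rfl⟩
      rw [hv'] at hv ⊢
      interval_cases v <;> simp [Pg]
  have hPinj : Function.Injective fun i : Fin 128 => S.elt (pw i) := by
    intro a b e
    have := congrArg S.key e
    simp only [hkey, Prod.mk.injEq] at this
    exact p_key_inj a b this.1 this.2.1 this.2.2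
  have hPcard : Nat.card (Subgroup.closure Pg) = 2 ^ 7 := by
    have e : ((Subgroup.closure Pg : Subgroup G) : Set G) = P0 :=
      Set.Subset.antisymm hPset (by rintro _ ⟨i, rfl⟩; exact hPall i i.2)
    show Nat.card ((Subgroup.closure Pg : Subgroup G) : Set G) = _
    rw [e, Nat.card_range_of_injective hPinj, Nat.card_fin]
    norm_num
  have hfac : (Nat.card G).factorization 2 = 7 := by
    rw [S.card_eq, show (50232960 : ℕ) = 2 ^ 7 * 392445 by norm_num,
      Nat.factorization_mul (by norm_num) (by norm_num), Nat.Prime.factorization_pow Nat.prime_two]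
    simp [Nat.factorization_eq_zero_of_not_dvd (show ¬ 2 ∣ 392445 by norm_num)]
  let P : Sylow 2 G := Sylow.ofCard (Subgroup.closure Pg) (by rw [hPcard, hfac])
  have hx2 : IsPGroup 2 (Subgroup.zpowers x) := IsPGroup.of_card (n := 1) (by rw [Nat.card_zpowers, hx, pow_one])
  obtain ⟨R, hR⟩ := hx2.exists_le_sylow
  obtain ⟨g, hg⟩ := MulAction.exists_smul_eq G R P
  have hxP : g * x * g⁻¹ ∈ Subgroup.closure Pg := by
    show g * x * g⁻¹ ∈ (P : Subgroup G)
    rw [← hg, Sylow.coe_subgroup_smul, Subgroup.mem_pointwise_smul_iff_inv_smul_mem]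
    simp only [← map_inv, MulAut.smul_def, MulAut.conj_apply]
    simpa [mul_assoc] using hR (Subgroup.mem_zpowers x)
  obtain ⟨i, hi⟩ := hPset _ hxP
  have hord : orderOf (g * x * g⁻¹) = 2 := by
    rw [show g * x * g⁻¹ = MulAut.conj g x from rfl]
    exact (orderOf_injective (MulAut.conj g).toMonoidHom (MulAut.conj g).injective x).trans hx
  have hi0 : (i : Nat) ≠ 0 := by
    intro e
    rw [show i = 0 from Fin.ext e] at hi
    simp only at hi
    rw [hone] at hi
    rw [← hi, orderOf_one] at hord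
    norm_num at hord
  simp only at hi
  have hsq : S.key (S.elt (pw i) * S.elt (pw i)) = (0, 4, 1) := by
    rw [hi, ← pow_two, ← hord, pow_orderOf_eq_one, key_one]
  rw [key_elt_mul, hkey] at hsq
  simp only [Prod.mk.injEq] at hsq
  have hconj : S.elt (pcj i) * S.t = S.elt (pw i) * S.elt (pcj i) := by
    have hq := allBelow_spec p_ok i i.2
    simp only [pStep, Bool.and_eq_true] at hq
    have h := hq.1.1.2
    rw [show Nat.beq (i : Nat) 0 = false from Bool.eq_false_iff.mpr fun e => hi0 (Nat.eq_of_beq_eq_true e),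
      hsq.1, hsq.2.1, hsq.2.2] at h
    simp only [Nat.beq_refl, Bool.and_self, Bool.not_true, Bool.or_self, cond_false, List.all_cons, List.all_nil,
      Bool.and_true, Bool.and_eq_true, Nat.beq_eq] at h
    apply S.key_injective
    rw [key_elt_mul, t, key_elt, key_elt_mul, key_elt, h.1, h.2.1, h.2.2]
  have h1 : IsConj S.t (g * x * g⁻¹) := by
    rw [← hi]
    exact isConj_iff.mpr ⟨S.elt (pcj i), by rw [hconj, mul_inv_cancel_right]⟩
  exact h1.trans (isConj_iff.mpr ⟨g⁻¹, by group⟩)

end Setup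

end CfsgLib.SporadicB.J3Inv
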