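import Cfsg.Agent.Lib.SporadicB.J3Inv.Basic
import Cfsg.Prelude.Def_Transfer

/-! The structure of the centraliser of an involution of J3. -/

set_option autoImplicit false
set_option linter.all false
set_option Elab.async false

namespace CfsgLib.SporadicB.J3Inv

open CfsgLib.SporRecognition.CosetCert (allBelow allBelow_spec allPow allPow_append field countLab ncard_lab)
open scoped commutatorElement

attribute [local irreducible] e0 e1 e2 ct0 ct1 ct2 cvia csrc srtE img inH srtH qidx qw qm tw cw0 cw1 cw2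

/-- A criterion for extraspecial 2-groups. -/
theorem isExtraspecial_of {P : Type*} [Group P] [Finite P] (n : ℕ) (hP : Nat.card P = 2 ^ n) (z : P) (hz1 : z ≠ 1)
    (hzc : ∀ x, x * z = z * x) (hsq : ∀ x : P, x * x = 1 ∨ x * x = z)
    (hcen : ∀ x : P, (∀ y, x * y = y * x) → x = 1 ∨ x = z) (hne : ∃ x y : P, x * y ≠ y * x) :
    Cfsg.IsExtraspecial 2 P := by
  have : Fact (Nat.Prime 2) := ⟨Nat.prime_two⟩
  have hp : IsPGroup 2 P := IsPGroup.of_card hP
  have hzC : z ∈ Subgroup.center P := Subgroup.mem_center_iff.mpr hzc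
  have hsqC : ∀ x : P, x * x ∈ Subgroup.center P := fun x => by
    rcases hsq x with h | h <;> rw [h]
    · exact one_mem _
    · exact hzC
  have hcomm : commutator P ≤ Subgroup.center P := by
    rw [commutator_def, Subgroup.commutator_le]
    intro x _ y _
    have e : ⁅x, y⁆ = (x * x) * ((x⁻¹ * y) * (x⁻¹ * y)) * ((y⁻¹) * (y⁻¹)) := by
      rw [commutatorElement_def]; group
    rw [e]
    exact mul_mem (mul_mem (hsqC x) (hsqC _)) (hsqC _)
  have hfr : frattini P ≤ Subgroup.center P :=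
    CfsgLib.PGroups.frattini_le_of hcomm fun x => by rw [pow_two]; exact hsqC x
  have hmem : ∀ x ∈ Subgroup.center P, x = 1 ∨ x = z := fun x hx =>
    hcen x fun y => (Subgroup.mem_center_iff.mp hx y).symm
  have hcC : Subgroup.center P ≤ commutator P := by
    obtain ⟨x, y, hxy⟩ := hne
    have hc : ⁅x, y⁆ ∈ commutator P := Subgroup.commutator_mem_commutator (Subgroup.mem_top x) (Subgroup.mem_top y)
    have hcz : ⁅x, y⁆ = z := by
      refine (hmem _ (hcomm hc)).resolve_left fun h => hxy ?_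
      exact commutatorElement_eq_one_iff_mul_comm.mp h
    intro w hw
    rcases hmem w hw with rfl | rfl
    · exact one_mem _
    · rw [← hcz]; exact hc
  refine ⟨⟨hp, le_antisymm hfr (hcC.trans (CfsgLib.PGroups.commutator_le_frattini hp)), le_antisymm hcomm hcC⟩, ?_⟩
  rw [show 2 = ({1, z} : Set P).ncard from (Set.ncard_pair (Ne.symm hz1)).symm]
  show Nat.card ((Subgroup.center P : Subgroup P) : Set P) = _
  rw [Nat.card_coe_set_eq]
  congr 1
  ext w
  constructor
  · exact hmem w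
  · rintro (rfl | rfl)
    · exact one_mem _
    · exact hzC

theorem alt_code_inj {σ τ : alternatingGroup (Fin 5)}
    (h : ∀ r : Fin 5, ((σ : Equiv.Perm (Fin 5)) r : Nat) = ((τ : Equiv.Perm (Fin 5)) r : Nat)) : σ = τ :=
  Subtype.ext (Equiv.ext fun r => Fin.ext (h r))

theorem dig3_aone : ∀ r : Fin 5, dig3 aone r = (r : Nat) := by decide +kernel

theorem exists_alt (k : Fin 3) : ∃ σ : alternatingGroup (Fin 5),
    ∀ r : Fin 5, ((σ : Equiv.Perm (Fin 5)) r : Nat) = (aimg k).getD r 7 := by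
  fin_cases k
  · exact ⟨⟨Equiv.swap 0 1 * Equiv.swap 2 3, Equiv.Perm.mem_alternatingGroup.mpr (by decide)⟩, by decide⟩
  · exact ⟨⟨Equiv.swap 0 2 * Equiv.swap 2 4, Equiv.Perm.mem_alternatingGroup.mpr (by decide)⟩, by decide⟩
  · exact ⟨1, by decide⟩

theorem card_alt_five : Nat.card (alternatingGroup (Fin 5)) = 60 := by
  rw [nat_card_alternatingGroup, Nat.card_fin]
  rfl

namespace Setup

variable {G : Type*} [Group G] (S : Setup G)

theorem e_key_inj (a b : Fin 1920) (h0 : e0 a = e0 b) (h1 : e1 a = e1 b) (h2 : e2 a = e2 b) : a = b := by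
  have hp := fun j hj => allBelow_spec elem_ok j hj
  refine inj_sorted (fun j => e0 j + 8192 * e1 j + 67108864 * e2 j) srtE (fun j hj => ?_) (fun j hj => ?_) a b
    (by simp [h0, h1, h2])
  · have h := hp j hj
    simp only [elemStep, Bool.and_eq_true, Nat.blt_eq] at h
    exact h.1.2
  · have h := hp (j + 1) hj
    simp only [elemStep, Bool.and_eq_true] at h
    have := h.2
    rw [show Nat.beq (j + 1) 0 = false from rfl, cond_false, Nat.blt_eq] at this
    exact this

theorem elt_mem_cent {k : Nat} (hk : k < 3) : S.elt (cw k) ∈ S.cent := by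
  have h := comm_ok
  simp only [List.all_cons, List.all_nil, Bool.and_true, Bool.and_eq_true, Nat.beq_eq] at h
  refine Subgroup.mem_centralizer_singleton_iff.mpr ?_
  apply S.key_injective
  rw [t, key_elt_mul, key_elt, key_elt_mul, key_elt]
  interval_cases k
  · rw [h.1.1, h.1.2.1, h.1.2.2]
  · rw [h.2.1.1, h.2.1.2.1, h.2.1.2.2]
  · rw [h.2.2.1, h.2.2.2.1, h.2.2.2.2]

/-- The structure of the centraliser. -/
theorem cent_structure : ∃ (Q : Subgroup S.cent) (_ : Q.Normal), Cfsg.IsExtraspecial 2 Q ∧ Nat.card Q = 32 ∧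
    (∀ E : Subgroup Q, Cfsg.IsElementaryAbelian 2 E → Nat.card E ≤ 2 ^ 2) ∧
    (∃ H : Subgroup S.cent, Q.IsComplement' H) ∧ Nonempty (S.cent ⧸ Q ≃* alternatingGroup (Fin 5)) := by
  classical
  have := S.finite
  choose al hal using exists_alt
  let gc : Fin 3 → S.cent := fun k => ⟨S.elt (cw k), S.elt_mem_cent k.2⟩
  have hel := fun j hj => allBelow_spec elem_ok j hj
  simp only [elemStep, Bool.and_eq_true] at hel
  have hcs : ∀ (k : Fin 3) j, j < 1920 → centStep k j = true := by
    intro k j hj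
    obtain ⟨⟨⟨⟨⟨⟨⟨⟨-, c0⟩, c1⟩, c2⟩, -⟩, -⟩, -⟩, -⟩, -⟩ := hel j hj
    fin_cases k
    · exact c0
    · exact c1
    · exact c2
  let Z : Set (S.cent × alternatingGroup (Fin 5)) := Set.range fun k => (gc k, al k)
  let D := Subgroup.closure Z
  let Kj : Nat → S.cent × alternatingGroup (Fin 5) → Prop := fun j d =>
    S.key (d.1 : G) = (e0 j, e1 j, e2 j) ∧ ∀ r : Fin 5, ((d.2 : Equiv.Perm (Fin 5)) r : Nat) = dig3 (img j) r
  have h00 : e0 0 = 0 ∧ e1 0 = 4 ∧ e2 0 = 1 ∧ img 0 = aone ∧ inH 0 = 1 := by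
    obtain ⟨⟨⟨⟨⟨-, hb⟩, -⟩, -⟩, -⟩, -⟩ := hel 0 (by norm_num)
    simp only [Nat.beq_refl, cond_true, Bool.and_eq_true, Nat.beq_eq] at hb
    exact ⟨hb.1.1.1.1, hb.1.1.1.2, hb.1.1.2, hb.1.2, hb.2⟩
  have hK0 : Kj 0 1 := by
    refine ⟨?_, fun r => ?_⟩
    · rw [h00.1, h00.2.1, h00.2.2.1]; exact S.key_one
    · rw [h00.2.2.2.1, dig3_aone]; rfl
  have hstep : ∀ (k : Fin 3) (j : Nat) (d : S.cent × alternatingGroup (Fin 5)), j < 1920 → Kj j d →
      ct k j < 1920 ∧ Kj (ct k j) ((gc k, al k) * d) := by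
    intro k j d hj hd
    have h := hcs k j hj
    simp only [centStep, imgStep, Bool.and_eq_true, Nat.blt_eq, Nat.beq_eq, List.all_cons, List.all_nil,
      Bool.and_true] at h
    obtain ⟨⟨⟨⟨hlt, a0⟩, a1⟩, a2⟩, i0, i1, i2, i3, i4⟩ := h
    refine ⟨hlt, ?_, fun r => ?_⟩
    · show S.key (S.elt (cw k) * (d.1 : G)) = _
      rw [key_elt_mul, hd.1, a0, a1, a2]
    · show (((al k : Equiv.Perm (Fin 5)) ((d.2 : Equiv.Perm (Fin 5)) r) : Fin 5) : Nat) = _
      rw [hal, hd.2]
      fin_cases r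
      · exact i0.symm
      · exact i1.symm
      · exact i2.symm
      · exact i3.symm
      · exact i4.symm
  have hP : ∀ d ∈ D, ∃ j < 1920, Kj j d := by
    refine CfsgLib.SporadicB.J3.closure_subset_of_left_closed Z {d | ∃ j < 1920, Kj j d} ⟨0, by norm_num, hK0⟩ ?_
    rintro _ ⟨k, rfl⟩ d ⟨j, hj, hd⟩
    exact ⟨_, hstep k j d hj hd⟩
  have hall : ∀ j, j < 1920 → ∃ d ∈ D, Kj j d := by
    intro j
    induction j using Nat.strongRecOn with
    | _ j ih =>
      intro hj
      by_cases hj0 : j = 0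
      · exact ⟨1, D.one_mem, hj0 ▸ hK0⟩
      obtain ⟨⟨⟨⟨⟨-, hb⟩, -⟩, -⟩, -⟩, -⟩ := hel j hj
      rw [show Nat.beq j 0 = false from Bool.eq_false_iff.mpr fun e => hj0 (Nat.eq_of_beq_eq_true e), cond_false] at hb
      simp only [Bool.and_eq_true, Nat.blt_eq, Nat.beq_eq] at hb
      obtain ⟨⟨hv, hsrc⟩, ht⟩ := hb
      obtain ⟨d, hd, hKd⟩ := ih _ hsrc (hsrc.trans hj)
      refine ⟨(gc ⟨cvia j, hv⟩, al ⟨cvia j, hv⟩) * d, D.mul_mem (Subgroup.subset_closure ⟨_, rfl⟩) hd, ?_⟩
      have hfin := (hstep ⟨cvia j, hv⟩ _ d (hsrc.trans hj) hKd).2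
      simp only at hfin
      rwa [ht] at hfin
  choose dj hdjD hdjK using fun j : Fin 1920 => hall j j.2
  let p1 : D →* S.cent := (MonoidHom.fst _ _).comp D.subtype
  let p2 : D →* alternatingGroup (Fin 5) := (MonoidHom.snd _ _).comp D.subtype
  have hjz : ∀ (j : Nat), j < 1920 → ∀ d, Kj j d → d.1 = 1 → j = 0 := by
    intro j hj d hd he
    have h := hd.1
    rw [he, Subgroup.coe_one, key_one] at h
    simp only [Prod.mk.injEq] at h
    exact congrArg Fin.val (e_key_inj ⟨j, hj⟩ ⟨0, by norm_num⟩ (h.1.symm.trans h00.1.symm)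
      (h.2.1.symm.trans h00.2.1.symm) (h.2.2.symm.trans h00.2.2.1.symm))
  have hp1 : Function.Injective p1 := by
    rw [← MonoidHom.ker_eq_bot_iff, Subgroup.eq_bot_iff_forall]
    rintro ⟨⟨c, m⟩, hd⟩ hk
    have hc : c = 1 := MonoidHom.mem_ker.mp hk
    obtain ⟨j, hj, hKj⟩ := hP _ hd
    have hj0 := hjz j hj _ hKj hc
    refine Subtype.ext (Prod.ext hc (alt_code_inj fun r => ?_))
    rw [hKj.2 r, hj0, h00.2.2.2.1, dig3_aone]
    rfl
  have hDlist : Function.Bijective fun j : Fin 1920 => (⟨dj j, hdjD j⟩ : D) := by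
    constructor
    · intro a b e
      have e' : dj a = dj b := congrArg Subtype.val e
      have h := (hdjK a).1
      rw [e', (hdjK b).1] at h
      simp only [Prod.mk.injEq] at h
      exact (e_key_inj b a h.1 h.2.1 h.2.2).symm
    · rintro ⟨d, hd⟩
      obtain ⟨j, hj, hKj⟩ := hP d hd
      refine ⟨⟨j, hj⟩, hp1 (Subtype.ext (S.key_injective ?_))⟩
      exact ((hdjK ⟨j, hj⟩).1).trans hKj.1.symm
  have hDcard : Nat.card D = 1920 := by rw [← Nat.card_eq_of_bijective _ hDlist, Nat.card_fin]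
  have hp1b : Function.Bijective p1 := by
    refine (Nat.bijective_iff_injective_and_card _).mpr ⟨hp1, ?_⟩
    have hr : Nat.card p1.range = 1920 := by rw [← Nat.card_congr (MonoidHom.ofInjective hp1).toEquiv, hDcard]
    have h := p1.range.card_mul_index
    rw [hr] at h
    have := S.card_cent_le
    have hpos : 0 < Nat.card S.cent := Nat.card_pos
    have : p1.range.index = 1 := by nlinarith
    rw [this, mul_one] at h
    rw [hDcard, h]
  let f : S.cent →* alternatingGroup (Fin 5) := p2.comp (MulEquiv.ofBijective p1 hp1b).symm.toMonoidHom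
  have hrep : ∀ c : S.cent, ∃ j : Fin 1920, S.key (c : G) = (e0 j, e1 j, e2 j) ∧
      ∀ r : Fin 5, ((f c : Equiv.Perm (Fin 5)) r : Nat) = dig3 (img j) r := by
    intro c
    obtain ⟨d, rfl⟩ := (MulEquiv.ofBijective p1 hp1b).surjective c
    obtain ⟨j, hj, hKj⟩ := hP d.1 d.2
    refine ⟨⟨j, hj⟩, hKj.1, fun r => ?_⟩
    simp only [f, MonoidHom.comp_apply, MulEquiv.coe_toMonoidHom, MulEquiv.symm_apply_apply]
    exact hKj.2 r
  let el : Fin 1920 → S.cent := fun j => p1 ⟨dj j, hdjD j⟩
  have hel_key : ∀ j : Fin 1920, S.key (el j : G) = (e0 j, e1 j, e2 j) := fun j => (hdjK j).1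
  have hel_f : ∀ j : Fin 1920, ∀ r : Fin 5, ((f (el j) : Equiv.Perm (Fin 5)) r : Nat) = dig3 (img j) r := by
    intro j r
    have : (MulEquiv.ofBijective p1 hp1b).symm (el j) = ⟨dj j, hdjD j⟩ :=
      (MulEquiv.ofBijective p1 hp1b).symm_apply_apply _
    simp only [f, MonoidHom.comp_apply, MulEquiv.coe_toMonoidHom, this]
    exact (hdjK j).2 r
  have hel_ext : ∀ (j : Fin 1920) (c : S.cent), S.key (c : G) = (e0 j, e1 j, e2 j) → c = el j := fun j c h =>
    Subtype.ext (S.key_injective (h.trans (hel_key j).symm))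
  have hel_inj : Function.Injective el := by
    intro a b e
    have h := hel_key a
    rw [e, hel_key b] at h
    simp only [Prod.mk.injEq] at h
    exact (e_key_inj b a h.1 h.2.1 h.2.2).symm
  -- the complement
  have hs := sur_ok
  simp only [Bool.and_eq_true, Nat.beq_eq] at hs
  let hh : Fin 60 → Fin 1920 := fun i => ⟨srtH i, by
    have := allBelow_spec hs.1 i i.2
    simp only [Bool.and_eq_true, Nat.blt_eq] at this
    exact this.1.1⟩
  have hfinj : Function.Injective fun i : Fin 60 => f (el (hh i)) := by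
    intro a b e
    have hd : ∀ r : Fin 5, dig3 (img (srtH a)) r = dig3 (img (srtH b)) r := fun r => by
      rw [← hel_f (hh a) r, ← hel_f (hh b) r]
      simp only at e
      rw [e]
    have hmono : ∀ i, i + 1 < 60 → img (srtH i) < img (srtH (i + 1)) := by
      intro i hi
      have := allBelow_spec hs.1 (i + 1) hi
      simp only [Bool.and_eq_true] at this
      have h2 := this.2
      rw [show Nat.beq (i + 1) 0 = false from rfl, cond_false, Nat.blt_eq] at h2
      exact h2
    refine inj_sorted (fun i => img (srtH i)) id (fun j hj => hj) hmono a b ?_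
    show img (srtH a) = img (srtH b)
    have hlt : ∀ x, img x < 2 ^ 15 := fun x => by
      unfold img field
      exact lt_of_le_of_lt Nat.and_le_right (by decide)
    have tb : ∀ (x : Nat) (i : Nat), i < 15 → (dig3 x (i / 3)).testBit (i % 3) = x.testBit i := by
      intro x i hi
      show ((x >>> (3 * (i / 3))) &&& (2 ^ 3 - 1)).testBit (i % 3) = _
      rw [Nat.testBit_and, Nat.testBit_two_pow_sub_one, Nat.testBit_shiftRight, Nat.div_add_mod,
        decide_eq_true (Nat.mod_lt i (by norm_num)), Bool.and_true]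
    apply Nat.eq_of_testBit_eq
    intro i
    by_cases hi : i < 15
    · rw [← tb _ i hi, ← tb _ i hi, hd ⟨i / 3, by omega⟩]
    · have hp : 2 ^ 15 ≤ 2 ^ i := Nat.pow_le_pow_right (by norm_num) (by omega)
      rw [Nat.testBit_lt_two_pow ((hlt _).trans_le hp), Nat.testBit_lt_two_pow ((hlt _).trans_le hp)]
  have hf60 : Function.Bijective fun i : Fin 60 => f (el (hh i)) :=
    (Nat.bijective_iff_injective_and_card _).mpr ⟨hfinj, by rw [Nat.card_fin, card_alt_five]⟩
  have hfsur : Function.Surjective f := fun σ => by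
    obtain ⟨i, rfl⟩ := hf60.2 σ
    exact ⟨_, rfl⟩
  have hkcard : Nat.card f.ker = 32 := by
    have e := f.ker.card_mul_index
    rw [Subgroup.index_ker, MonoidHom.range_eq_top.mpr hfsur, Subgroup.card_top, card_alt_five,
      ← Nat.card_congr (MulEquiv.ofBijective p1 hp1b).toEquiv, hDcard] at e
    omega
  refine ⟨f.ker, inferInstance, ?_⟩
  -- the kernel as a table
  have hq := q_ok
  simp only [Bool.and_eq_true, Nat.beq_eq] at hq
  have hqs := fun i hi => allBelow_spec hq.1.1 i hi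
  simp only [qStep, Bool.and_eq_true, Nat.blt_eq, Nat.beq_eq] at hqs
  have hqlt : ∀ i : Fin 32, qidx i < 1920 := fun i => (hqs i i.2).1.1.1.1.1
  have hqelt : ∀ i : Fin 32, S.elt (qw i) = (el ⟨qidx i, hqlt i⟩ : G) := fun i => by
    obtain ⟨⟨⟨⟨-, h0⟩, h1⟩, h2⟩, -⟩ := hqs i i.2
    apply S.key_injective
    rw [hel_key, key_elt, h0, h1, h2]
  have hqker : ∀ i : Fin 32, el ⟨qidx i, hqlt i⟩ ∈ f.ker := fun i => by
    rw [MonoidHom.mem_ker]
    refine alt_code_inj fun r => ?_
    rw [hel_f]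
    show dig3 (img (qidx i)) r = _
    rw [(hqs i i.2).1.1.1.1.2, dig3_aone]
    rfl
  let qe : Fin 32 → f.ker := fun i => ⟨_, hqker i⟩
  have hqinj : Function.Injective qe := by
    intro a b e
    have e' : qidx a = qidx b := congrArg Fin.val (hel_inj (congrArg Subtype.val e))
    have h := allBelow_spec (hqs a a.2).2 b b.2
    simp only [Bool.and_eq_true, Bool.or_eq_true, Bool.not_eq_true'] at h
    exact Fin.ext (Nat.eq_of_beq_eq_true (h.1.1.1.1.resolve_right fun hne => Nat.ne_of_beq_eq_false hne e'))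
  have hqb : Function.Bijective qe :=
    (Nat.bijective_iff_injective_and_card _).mpr ⟨hqinj, by rw [Nat.card_fin, hkcard]⟩
  have hqmul : ∀ i j : Fin 32, ∃ h : q i j < 32, qe i * qe j = qe ⟨q i j, h⟩ := by
    intro i j
    have h := allBelow_spec (hqs i i.2).2 j j.2
    simp only [Bool.and_eq_true, Nat.beq_eq, Nat.blt_eq] at h
    obtain ⟨⟨⟨⟨-, hlt⟩, a0⟩, a1⟩, a2⟩ := h
    refine ⟨hlt, Subtype.ext (hel_ext _ _ ?_)⟩
    show S.key ((el ⟨qidx i, hqlt i⟩ : G) * (el ⟨qidx j, hqlt j⟩ : G)) = _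
    rw [← hqelt i, key_elt_mul, hel_key, a0, a1, a2]
  have hq0 : qe 0 = 1 := by
    refine Subtype.ext (hel_ext _ _ ?_).symm
    show S.key 1 = _
    rw [key_one]
    show _ = (e0 (qidx 0), e1 (qidx 0), e2 (qidx 0))
    rw [hq.1.2, h00.1, h00.2.1, h00.2.2.1]
  have hqeq : ∀ i j : Fin 32, qe i * qe j = qe j * qe i ↔ q i j = q j i := by
    intro i j
    obtain ⟨h, e⟩ := hqmul i j
    obtain ⟨h', e'⟩ := hqmul j i
    rw [e, e']
    exact ⟨fun h => congrArg Fin.val (hqinj h), fun h => by congr 1; exact Fin.ext h⟩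
  have hqone : ∀ (i : Fin 32), qe i = 1 ↔ (i : Nat) = 0 := fun i => by
    rw [← hq0, hqinj.eq_iff, Fin.ext_iff]
    rfl
  have hq2 := fun i hi => allBelow_spec hq.2 i hi
  simp only [Bool.and_eq_true, Bool.or_eq_true, Nat.beq_eq, beq_iff_eq] at hq2
  have hncomm : ∀ i : Fin 32, (∀ j, qe i * qe j = qe j * qe i) → (i : Nat) = 0 ∨ (i : Nat) = 18 := by
    intro i hi
    rcases (hq2 i i.2).2 with h | h
    · exact h
    · exfalso
      have key : ∀ d base, allPow 32 (fun j => Nat.beq (q i j) (q j i)) d base = true := by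
        intro d
        induction d with
        | zero =>
          intro base
          show (bif Nat.blt base 32 then Nat.beq (q i base) (q base i) else true) = true
          cases hb : Nat.blt base 32
          · rfl
          · exact Nat.beq_eq.mpr ((hqeq i ⟨base, Nat.blt_eq.mp hb⟩).mp (hi _))
        | succ d ih => intro base; exact allPow_append (ih _) (ih _)
      rw [allBelow, key] at h
      exact absurd h (by decide)
  have hsq18 : ∀ i : Fin 32, qe i * qe i = 1 ∨ qe i * qe i = qe 18 := by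
    intro i
    obtain ⟨h, e⟩ := hqmul i i
    rw [e]
    rcases (hq2 i i.2).1.1 with h0 | h0
    · exact Or.inl ((hqone _).mpr h0)
    · exact Or.inr (congrArg qe (Fin.ext h0))
  refine ⟨?_, hkcard, ?_, ?_, ⟨QuotientGroup.quotientKerEquivOfSurjective f hfsur⟩⟩
  · refine isExtraspecial_of 5 (by rw [hkcard]; norm_num) (qe 18) (fun h => ?_) ?_ ?_ ?_ ?_
    · exact absurd ((hqone 18).mp h) (by decide)
    · intro x
      obtain ⟨i, rfl⟩ := hqb.2 x
      exact (hqeq i 18).mpr (hq2 i i.2).1.2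
    · intro x
      obtain ⟨i, rfl⟩ := hqb.2 x
      exact hsq18 i
    · intro x hx
      obtain ⟨i, rfl⟩ := hqb.2 x
      rcases hncomm i fun j => hx _ with h | h
      · exact Or.inl ((hqone i).mpr h)
      · exact Or.inr (congrArg qe (Fin.ext h))
    · by_contra hne
      push Not at hne
      rcases hncomm 1 fun j => hne _ _ with h | h <;> exact absurd h (by decide)
  · intro E hE
    by_contra hcard
    push Not at hcard
    have hpick : ∀ s : Finset f.ker, s.card ≤ 4 → ∃ c ∈ E, c ∉ s := by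
      intro s hs
      by_contra hall'
      push Not at hall'
      have : Nat.card E ≤ s.card := by
        rw [← Nat.card_coe_set_eq (s : Set f.ker) |>.trans (Set.ncard_coe_finset s)]
        exact Nat.card_le_card_of_injective (fun e : E => (⟨e.1, hall' e.1 e.2⟩ : (s : Set f.ker)))
          fun a b e => Subtype.ext (congrArg (fun t : (s : Set f.ker) => (t : f.ker)) e)
      omega
    obtain ⟨a, haE, ha⟩ := hpick {1} (by simp)
    obtain ⟨b, hbE, hb⟩ := hpick {1, a} (le_trans Finset.card_le_two (by norm_num))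
    obtain ⟨c, hcE, hc⟩ := hpick {1, a, b, a * b} (le_trans Finset.card_le_four le_rfl)
    simp only [Finset.mem_insert, Finset.mem_singleton, not_or] at ha hb hc
    obtain ⟨i, rfl⟩ := hqb.2 a
    obtain ⟨j, rfl⟩ := hqb.2 b
    obtain ⟨k, rfl⟩ := hqb.2 c
    have hcomm : ∀ x ∈ E, ∀ y ∈ E, x * y = y * x := fun x hx y hy =>
      congrArg Subtype.val (hE.1.is_comm.comm ⟨x, hx⟩ ⟨y, hy⟩)
    have hsq : ∀ x : Fin 32, qe x ∈ E → q x x = 0 := fun x hx => by
      obtain ⟨h, e⟩ := hqmul x x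
      exact (hqone ⟨q x x, h⟩).mp (by rw [← e, ← pow_two]; exact hE.2 _ hx)
    obtain ⟨hij, eij⟩ := hqmul i j
    have h := allBelow_spec (allBelow_spec (allBelow_spec q_clique i i.2) j j.2) k k.2
    have n0 : ∀ x : Fin 32, qe x ≠ 1 → Nat.beq (x : Nat) 0 = false := fun x hx =>
      Bool.eq_false_iff.mpr fun e => hx ((hqone x).mpr (Nat.eq_of_beq_eq_true e))
    have nn : ∀ x y : Fin 32, qe x ≠ qe y → Nat.beq (x : Nat) y = false := fun x y hx =>
      Bool.eq_false_iff.mpr fun e => hx (congrArg qe (Fin.ext (Nat.eq_of_beq_eq_true e)))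
    rw [n0 i ha, n0 j hb.1, n0 k hc.1, nn i j (Ne.symm hb.2), nn k i hc.2.1, nn k j hc.2.2.1,
      show Nat.beq (k : Nat) (q i j) = false from nn k ⟨_, hij⟩ (eij ▸ hc.2.2.2),
      hsq i haE, hsq j hbE, hsq k hcE, (hqeq i j).mp (hcomm _ haE _ hbE), (hqeq i k).mp (hcomm _ haE _ hcE),
      (hqeq j k).mp (hcomm _ hbE _ hcE)] at h
    simp at h
  · -- complement
    let Hs : Set S.cent := {c | ∃ j : Fin 1920, inH j = 1 ∧ c = el j}
    let H : Subgroup S.cent := Subgroup.closure {gc 0, gc 1}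
    have hone : el ⟨0, by norm_num⟩ = 1 := by
      refine (hel_ext _ _ ?_).symm
      show S.key 1 = (e0 0, e1 0, e2 0)
      rw [key_one, h00.1, h00.2.1, h00.2.2.1]
    have hHs : ∀ c ∈ H, c ∈ Hs := by
      refine CfsgLib.SporadicB.J3.closure_subset_of_left_closed _ Hs ⟨⟨0, by norm_num⟩, h00.2.2.2.2, hone.symm⟩ ?_
      rintro s hs' c ⟨j, hj, rfl⟩
      obtain ⟨⟨⟨-, hcl⟩, -⟩, -⟩ := hel j j.2
      rw [show Nat.beq (inH j) 1 = true from by rw [hj]; rfl, cond_true, Bool.and_eq_true, Nat.beq_eq, Nat.beq_eq] at hcl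
      have hst : ∀ k : Fin 3, ∃ h : ct k j < 1920, gc k * el j = el ⟨ct k j, h⟩ := by
        intro k
        obtain ⟨h, hK⟩ := hstep k j (dj j) j.2 (hdjK j)
        exact ⟨h, hel_ext _ _ hK.1⟩
      rcases hs' with rfl | rfl
      · obtain ⟨h, e⟩ := hst 0; exact ⟨⟨_, h⟩, hcl.1, e⟩
      · obtain ⟨h, e⟩ := hst 1; exact ⟨⟨_, h⟩, hcl.2, e⟩
    have hcount : {j : Fin 1920 | inH j = 1}.ncard = 60 := by
      rw [ncard_lab (by norm_num : 1920 ≤ 2 ^ 11)]
      exact hs.2
    have hHle : Nat.card H ≤ 60 := by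
      rw [← hcount, ← Nat.card_coe_set_eq]
      choose jf hjf hjfe using fun c : H => hHs c c.2
      exact Nat.card_le_card_of_injective (fun c : H => (⟨jf c, hjf c⟩ : {j : Fin 1920 | inH j = 1}))
        fun a b e => Subtype.ext ((hjfe a).trans ((congrArg el (congrArg Subtype.val e)).trans (hjfe b).symm))
    have hfH : Function.Surjective (f.comp H.subtype) := by
      intro σ
      have hgen : ∀ c : S.cent, f c ∈ H.map f := by
        intro c
        obtain ⟨d, rfl⟩ := (MulEquiv.ofBijective p1 hp1b).surjective c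
        have hfd : f ((MulEquiv.ofBijective p1 hp1b) d) = p2 d := by
          show p2 ((MulEquiv.ofBijective p1 hp1b).symm ((MulEquiv.ofBijective p1 hp1b) d)) = p2 d
          rw [MulEquiv.symm_apply_apply]
        rw [hfd]
        have hle : D ≤ (H.map f).comap (MonoidHom.snd _ _) := by
          rw [Subgroup.closure_le]
          rintro _ ⟨k, rfl⟩
          show al k ∈ H.map f
          have hfg : f (gc k) = al k := by
            have h1 : (MulEquiv.ofBijective p1 hp1b) ⟨(gc k, al k), Subgroup.subset_closure ⟨k, rfl⟩⟩ = gc k := rfl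
            show p2 ((MulEquiv.ofBijective p1 hp1b).symm (gc k)) = al k
            rw [← h1, MulEquiv.symm_apply_apply]
            rfl
          fin_cases k
          · exact ⟨gc 0, Subgroup.subset_closure (Or.inl rfl), hfg⟩
          · exact ⟨gc 1, Subgroup.subset_closure (Or.inr rfl), hfg⟩
          · have : al 2 = 1 := alt_code_inj fun r => by rw [hal]; revert r; decide
            show al 2 ∈ H.map f
            rw [this]
            exact one_mem _
        exact hle d.2
      obtain ⟨c, rfl⟩ := hfsur σ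
      obtain ⟨x, hx, e⟩ := hgen c
      exact ⟨⟨x, hx⟩, e⟩
    have hbH : Function.Bijective (f.comp H.subtype) := by
      refine (Nat.bijective_iff_surjective_and_card _).mpr ⟨hfH, le_antisymm ?_ (Nat.card_le_card_of_surjective _ hfH)⟩
      rw [card_alt_five]
      exact hHle
    refine ⟨H, Subgroup.isComplement'_of_disjoint_and_mul_eq_univ ?_ ?_⟩
    · rw [Subgroup.disjoint_def]
      intro x hx hxH
      exact congrArg Subtype.val (hbH.1 (a₁ := ⟨x, hxH⟩) (a₂ := 1) (by
        show f x = f 1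
        rw [map_one]; exact hx))
    · refine Set.eq_univ_of_forall fun x => ?_
      obtain ⟨y, hy⟩ := hbH.2 (f x)
      refine ⟨x * (y : S.cent)⁻¹, ?_, y, y.2, inv_mul_cancel_right _ _⟩
      show f (x * (y : S.cent)⁻¹) = 1
      rw [map_mul, map_inv, ← hy]
      exact mul_inv_cancel _

end Setup

end CfsgLib.SporadicB.J3Inv
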