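import Cfsg.Agent.Lib.SporadicB.J3Inv.Data
import Cfsg.Agent.Lib.SporadicB.J3.Small
import Cfsg.Agent.Lib.SporRecognition.CosetCert.Order

/-! Checks: involutions of J3 and the centraliser of one of them. -/

set_option autoImplicit false
set_option linter.all false
set_option Elab.async false

namespace CfsgLib.SporadicB.J3Inv

open CfsgLib.SporRecognition.CosetCert (allBelow allBelow_of_upto Upto allPow allPow_append field countLab)
open CfsgLib.SporadicB.J3.Data (tab0 tab1 perm0 perm1)

noncomputable def step (a x : Nat) : Nat := bif Nat.beq a 0 then tab0 x else tab1 x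

/-- Apply a packed word, the lowest bit first; a leading one marks the end. -/
noncomputable def runF (fuel : Nat) : Nat → Nat → Nat :=
  Nat.rec (fun _ x => x)
    (fun _ ih c x => bif Nat.blt c 2 then x else ih (Nat.shiftRight c 1) (step (Nat.land c 1) x)) fuel

noncomputable def run (c x : Nat) : Nat := runF 40 c x

noncomputable def cw (k : Nat) : Nat := bif Nat.beq k 0 then cw0 else bif Nat.beq k 1 then cw1 else cw2
noncomputable def ct (k : Nat) : Nat → Nat := bif Nat.beq k 0 then ct0 else bif Nat.beq k 1 then ct1 else ct2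

/-- The images in the alternating group. -/
def aimg : Fin 3 → List Nat := ![[1, 0, 3, 2, 4], [2, 1, 4, 3, 0], [0, 1, 2, 3, 4]]

noncomputable def dig3 (c r : Nat) : Nat := field c 3 r

noncomputable def imgStep (k : Fin 3) (j : Nat) : Bool :=
  [0, 1, 2, 3, 4].all fun r => Nat.beq (dig3 (img (ct k j)) r) ((aimg k).getD (dig3 (img j) r) 7)

noncomputable def centStep (k : Fin 3) (j : Nat) : Bool :=
  Nat.blt (ct k j) 1920 && Nat.beq (run (cw k) (e0 j)) (e0 (ct k j)) && Nat.beq (run (cw k) (e1 j)) (e1 (ct k j)) &&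
    Nat.beq (run (cw k) (e2 j)) (e2 (ct k j)) && imgStep k j

/-- The packed identity of five points. -/
def aone : Nat := 0 + 1 * 8 + 2 * 64 + 3 * 512 + 4 * 4096

noncomputable def elemStep (j : Nat) : Bool :=
  Nat.blt (e0 j) 6156 && Nat.blt (e1 j) 6156 && Nat.blt (e2 j) 6156 &&
  centStep 0 j && centStep 1 j && centStep 2 j &&
  (bif Nat.beq j 0 then Nat.beq (e0 j) 0 && Nat.beq (e1 j) 4 && Nat.beq (e2 j) 1 && Nat.beq (img j) aone && Nat.beq (inH j) 1
    else Nat.blt (cvia j) 3 && Nat.blt (csrc j) j && Nat.beq (ct (cvia j) (csrc j)) j) &&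
  (bif Nat.beq (img j) aone then allBelow 5 32 (fun i => !(Nat.beq (qidx i) j)) == false else true) &&
  (bif Nat.beq (inH j) 1 then Nat.beq (inH (ct0 j)) 1 && Nat.beq (inH (ct1 j)) 1 else true) &&
  Nat.blt (srtE j) 1920 &&
  (bif Nat.beq j 0 then true else
    Nat.blt (e0 (srtE (Nat.sub j 1)) + 8192 * e1 (srtE (Nat.sub j 1)) + 67108864 * e2 (srtE (Nat.sub j 1)))
      (e0 (srtE j) + 8192 * e1 (srtE j) + 67108864 * e2 (srtE j)))

theorem elem_ok_0 : allPow 1920 elemStep 9 0 = true := by decide +kernel
theorem elem_ok_1 : allPow 1920 elemStep 9 512 = true := by decide +kernel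
theorem elem_ok_2 : allPow 1920 elemStep 9 1024 = true := by decide +kernel
theorem elem_ok_3 : allPow 1920 elemStep 9 1536 = true := by decide +kernel
theorem elem_ok : allBelow 11 1920 elemStep = true :=
  allBelow_of_upto (hi := 2048) (Upto.of_pow (d := 11) (allPow_append (allPow_append elem_ok_0 elem_ok_1)
    (allPow_append elem_ok_2 elem_ok_3)) (Nat.le_refl _)) (by decide) (by decide)

end CfsgLib.SporadicB.J3Inv
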