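import Cfsg.Agent.Lib.SporadicB.J3Inv.Check

/-! Further checks: involutions of J3. -/

set_option autoImplicit false
set_option linter.all false
set_option Elab.async false

namespace CfsgLib.SporadicB.J3Inv

open CfsgLib.SporRecognition.CosetCert (allBelow allBelow_of_upto Upto allPow allPow_append field countLab)
open CfsgLib.SporadicB.J3.Data (tab0 tab1 perm0 perm1)

theorem sur_ok : (allBelow 6 60 (fun i => Nat.blt (srtH i) 1920 && Nat.beq (inH (srtH i)) 1 &&
    (bif Nat.beq i 0 then true else Nat.blt (img (srtH (Nat.sub i 1))) (img (srtH i)))) &&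
  Nat.beq (countLab 11 1920 inH 1) 60) = true := by decide +kernel

theorem t_ok : (Nat.beq (run tw 0) 0 &&
  Nat.beq (countLab 13 6156 (fun u => bif Nat.beq (run tw u) u then 1 else 0) 1) 76) = true := by decide +kernel

theorem t_sq : (Nat.beq (run tw (run tw 4)) 4 && Nat.beq (run tw (run tw 1)) 1 && !(Nat.beq (run tw 4) 4) &&
  Nat.beq (run tw (run tw 0)) 0) = true := by decide +kernel

theorem comm_ok : ([0, 1, 2].all fun k => [0, 4, 1].all fun b =>
    Nat.beq (run (cw k) (run tw b)) (run tw (run (cw k) b))) = true := by decide +kernel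

noncomputable def kperm (a : Nat) : Nat → Nat := bif Nat.beq a 0 then perm0 else perm1

noncomputable def kStep (j : Nat) : Bool :=
  (bif Nat.beq j 0 then Nat.beq (kk1 j) 4 && Nat.beq (kk2 j) 1 && Nat.beq (kk3 j) (run tw 4) && Nat.beq (kk4 j) (run tw 1)
    else Nat.blt (kvia j) 2 && Nat.blt (ksrc j) j &&
      Nat.beq (kperm (kvia j) (kk1 (ksrc j))) (kk1 j) && Nat.beq (kperm (kvia j) (kk2 (ksrc j))) (kk2 j) &&
      Nat.beq (kperm (kvia j) (kk3 (ksrc j))) (kk3 j) && Nat.beq (kperm (kvia j) (kk4 (ksrc j))) (kk4 j)) &&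
  Nat.blt (kk1 j) 6156 && Nat.blt (kk2 j) 6156 && Nat.blt (kk3 j) 6156 && Nat.blt (kk4 j) 6156 &&
  Nat.blt (srtKK j) 8160 &&
  (bif Nat.beq j 0 then true else
    Nat.blt (kk1 (srtKK (Nat.sub j 1)) + 8192 * kk2 (srtKK (Nat.sub j 1))) (kk1 (srtKK j) + 8192 * kk2 (srtKK j)))

theorem k_ok_0 : allPow 8160 kStep 11 0 = true := by decide +kernel
theorem k_ok_1 : allPow 8160 kStep 11 2048 = true := by decide +kernel
theorem k_ok_2 : allPow 8160 kStep 11 4096 = true := by decide +kernel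
theorem k_ok_3 : allPow 8160 kStep 11 6144 = true := by decide +kernel
theorem k_ok : allBelow 13 8160 kStep = true :=
  allBelow_of_upto (hi := 8192) (Upto.of_pow (d := 13) (allPow_append (allPow_append k_ok_0 k_ok_1)
    (allPow_append k_ok_2 k_ok_3)) (Nat.le_refl _)) (by decide) (by decide)

/-- A marked element of the stabiliser commutes with the involution. -/
noncomputable def kcomm (j : Nat) : Nat :=
  bif Nat.beq (run tw (kk1 j)) (kk3 j) && Nat.beq (run tw (kk2 j)) (kk4 j) then 1 else 0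

theorem k_count : countLab 13 8160 kcomm 1 = 32 := by decide +kernel

noncomputable def q (i j : Nat) : Nat := qm (32 * i + j)

noncomputable def qStep (i : Nat) : Bool :=
  Nat.blt (qidx i) 1920 && Nat.beq (img (qidx i)) aone &&
  Nat.beq (run (qw i) 0) (e0 (qidx i)) && Nat.beq (run (qw i) 4) (e1 (qidx i)) && Nat.beq (run (qw i) 1) (e2 (qidx i)) &&
  allBelow 5 32 (fun j => (Nat.beq i j || !(Nat.beq (qidx i) (qidx j))) && Nat.blt (q i j) 32 && Nat.beq (run (qw i) (e0 (qidx j))) (e0 (qidx (q i j))) &&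
    Nat.beq (run (qw i) (e1 (qidx j))) (e1 (qidx (q i j))) && Nat.beq (run (qw i) (e2 (qidx j))) (e2 (qidx (q i j))))

theorem q_ok : (allBelow 5 32 qStep && Nat.beq (qidx 0) 0 &&
    allBelow 5 32 (fun i => (Nat.beq (q i i) 0 || Nat.beq (q i i) 18) && Nat.beq (q i 18) (q 18 i) &&
      (Nat.beq i 0 || Nat.beq i 18 || (allBelow 5 32 (fun j => Nat.beq (q i j) (q j i)) == false)))) = true := by
  decide +kernel

theorem q_clique : allBelow 5 32 (fun a => allBelow 5 32 fun b => allBelow 5 32 fun c =>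
    !(!(Nat.beq a 0) && !(Nat.beq b 0) && !(Nat.beq c 0) && !(Nat.beq a b) && !(Nat.beq c a) && !(Nat.beq c b) &&
      !(Nat.beq c (q a b)) && Nat.beq (q a a) 0 && Nat.beq (q b b) 0 && Nat.beq (q c c) 0 &&
      Nat.beq (q a b) (q b a) && Nat.beq (q a c) (q c a) && Nat.beq (q b c) (q c b))) = true := by decide +kernel

noncomputable def pgStep (i : Nat) (k : Nat) : Bool :=
  Nat.blt (pt (3 * i + k)) 128 && Nat.beq (run (pg k) (p0 i)) (p0 (pt (3 * i + k))) &&
    Nat.beq (run (pg k) (p1 i)) (p1 (pt (3 * i + k))) && Nat.beq (run (pg k) (p2 i)) (p2 (pt (3 * i + k)))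

noncomputable def pStep (i : Nat) : Bool :=
  Nat.blt (p0 i) 6156 && Nat.blt (p1 i) 6156 && Nat.blt (p2 i) 6156 &&
  Nat.beq (run (pw i) 0) (p0 i) && Nat.beq (run (pw i) 4) (p1 i) && Nat.beq (run (pw i) 1) (p2 i) &&
  (pgStep i 0 && pgStep i 1 && pgStep i 2 &&
    (bif Nat.beq i 0 then true else Nat.blt (pvia i) 3 && Nat.blt (psrc i) i && Nat.beq (pt (3 * psrc i + pvia i)) i)) &&
  (bif Nat.beq i 0 || !(Nat.beq (run (pw i) (p0 i)) 0 && Nat.beq (run (pw i) (p1 i)) 4 && Nat.beq (run (pw i) (p2 i)) 1) then true else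
    [0, 4, 1].all fun b => Nat.beq (run (pcj i) (run tw b)) (run (pw i) (run (pcj i) b))) &&
  Nat.blt (srtP i) 128 &&
  (bif Nat.beq i 0 then Nat.beq (p0 i) 0 && Nat.beq (p1 i) 4 && Nat.beq (p2 i) 1 else
    Nat.blt (p0 (srtP (Nat.sub i 1)) + 8192 * p1 (srtP (Nat.sub i 1)) + 67108864 * p2 (srtP (Nat.sub i 1)))
      (p0 (srtP i) + 8192 * p1 (srtP i) + 67108864 * p2 (srtP i)))

theorem p_ok_0 : allPow 128 pStep 5 0 = true := by decide +kernel
theorem p_ok_1 : allPow 128 pStep 5 32 = true := by decide +kernel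
theorem p_ok_2 : allPow 128 pStep 5 64 = true := by decide +kernel
theorem p_ok_3 : allPow 128 pStep 5 96 = true := by decide +kernel
theorem p_ok : allBelow 7 128 pStep = true :=
  allBelow_of_upto (hi := 128) (Upto.of_pow (d := 7) (allPow_append (allPow_append p_ok_0 p_ok_1)
    (allPow_append p_ok_2 p_ok_3)) (Nat.le_refl _)) (by decide) (by decide)

end CfsgLib.SporadicB.J3Inv
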